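import Groth.Agent.HypSqLib.Box
import Groth.Agent.AmpleLib.Pullback

/-!
Multiplicativity of the Euler characteristic of box products of invertible modules.
-/

set_option autoImplicit false
set_option backward.isDefEq.respectTransparency false
set_option linter.style.haveILetI false

universe u

open CategoryTheory CategoryTheory.Limits AlgebraicGeometry

namespace Groth.Agent.EulerDegenLib

theorem sum_conv {N : ℕ} (a b : ℕ → ℤ) (ha : ∀ i, N ≤ i → a i = 0) (hb : ∀ i, N ≤ i → b i = 0) :
    ∑ n ∈ Finset.range (2 * N), ∑ p ∈ Finset.range (n + 1), a p * b (n - p) =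
      (∑ i ∈ Finset.range N, a i) * ∑ i ∈ Finset.range N, b i := by
  rw [Finset.sum_range_diag_flip (2 * N) fun p q => a p * b q]
  simp_rw [← Finset.mul_sum]
  rw [← Finset.sum_subset (Finset.range_subset_range.2 (show N ≤ 2 * N by omega))
    (fun p _ hp => by rw [ha p (not_lt.1 (by simpa using hp)), zero_mul]), Finset.sum_mul]
  refine Finset.sum_congr rfl fun p hp => ?_
  have hp' : p < N := Finset.mem_range.1 hp
  congr 1
  exact (Finset.sum_subset (Finset.range_subset_range.2 (by omega))
    (fun q _ hq => hb q (not_lt.1 (by simpa using hq)))).symm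

variable (k : Type u) [Field k] (X Y : Scheme.{u}) [X.Over (Spec (CommRingCat.of k))]
  [Y.Over (Spec (CommRingCat.of k))] [IsProper (X ↘ Spec (CommRingCat.of k))] [IsProper (Y ↘ Spec (CommRingCat.of k))]

/-- The Euler characteristic of a box product. -/
theorem euler_kunneth {F : X.Modules} (hF : PicF.IsInvertible F) {G : Y.Modules} (hG : PicF.IsInvertible G) :
    letI := KunnethHHLib.prodOver (A := k) X Y
    Curv2.euler k (pullback (KunnethHHLib.str k X) (KunnethHHLib.str k Y))
      (CohB1.tensorMod ((Scheme.Modules.pullback (pullback.fst (KunnethHHLib.str k X) (KunnethHHLib.str k Y))).obj F)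
        ((Scheme.Modules.pullback (pullback.snd (KunnethHHLib.str k X) (KunnethHHLib.str k Y))).obj G)) =
      Curv2.euler k X F * Curv2.euler k Y G := by
  letI := KunnethHHLib.prodOver (A := k) X Y
  haveI := EulerIneqLib.isNoetherian_proper (X := X) k
  haveI := EulerIneqLib.isNoetherian_proper (X := Y) k
  haveI : IsProper (pullback (KunnethHHLib.str k X) (KunnethHHLib.str k Y) ↘ Spec (CommRingCat.of k)) :=
    inferInstanceAs (IsProper (pullback.fst (KunnethHHLib.str k X) (KunnethHHLib.str k Y) ≫ KunnethHHLib.str k X))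
  haveI := EulerIneqLib.isNoetherian_proper (X := pullback (KunnethHHLib.str k X) (KunnethHHLib.str k Y)) k
  have hFc := CurveLib.isCoh_of_isInvertible hF
  have hGc := CurveLib.isCoh_of_isInvertible hG
  haveI : Coh.IsQCoh F := hFc.1
  haveI : Coh.IsQCoh G := hGc.1
  set T := CohB1.tensorMod ((Scheme.Modules.pullback (pullback.fst (KunnethHHLib.str k X) (KunnethHHLib.str k Y))).obj F)
      ((Scheme.Modules.pullback (pullback.snd (KunnethHHLib.str k X) (KunnethHHLib.str k Y))).obj G) with hT
  have hTc : Coh.IsCoh T := CurveLib.isCoh_of_isInvertible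
    (AmpleLib.isInvertible_tensor (AmpleLib.isInvertible_pullback _ hF) (AmpleLib.isInvertible_pullback _ hG))
  obtain ⟨Nx, hNx⟩ := CurveLib.exists_bound (X := X) k
  obtain ⟨Ny, hNy⟩ := CurveLib.exists_bound (X := Y) k
  obtain ⟨Np, hNp⟩ := CurveLib.exists_bound (X := pullback (KunnethHHLib.str k X) (KunnethHHLib.str k Y)) k
  let N := Nx + Ny + Np
  rw [CurveLib.euler_eq_sum F N fun p hp => hNx F hFc.1 p (by omega),
    CurveLib.euler_eq_sum G N fun p hp => hNy G hGc.1 p (by omega),
    CurveLib.euler_eq_sum T (2 * N) fun p hp => hNp T hTc.1 p (by omega),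
    ← sum_conv (fun i => (-1 : ℤ) ^ i * (Module.finrank k (Coh.HH X F i) : ℤ))
      (fun i => (-1 : ℤ) ^ i * (Module.finrank k (Coh.HH Y G i) : ℤ))
      (fun i hi => by
        haveI := hNx F hFc.1 i (by omega)
        rw [Module.finrank_zero_of_subsingleton, Nat.cast_zero, mul_zero])
      (fun i hi => by
        haveI := hNy G hGc.1 i (by omega)
        rw [Module.finrank_zero_of_subsingleton, Nat.cast_zero, mul_zero])]
  refine Finset.sum_congr rfl fun n _ => ?_
  rw [hT, HypSq.finrank_kunneth X Y F G (fun p => EulerIneqLib.finite_HH (k := k) hFc p)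
    (fun p => EulerIneqLib.finite_HH (k := k) hGc p) n,
    Fin.sum_univ_eq_sum_range (fun p => Module.finrank k (Coh.HH X F p) * Module.finrank k (Coh.HH Y G (n - p))) (n + 1),
    Nat.cast_sum, Finset.mul_sum]
  refine Finset.sum_congr rfl fun p hp => ?_
  have hpn : p ≤ n := Nat.lt_succ_iff.1 (Finset.mem_range.1 hp)
  obtain ⟨q, rfl⟩ := Nat.exists_eq_add_of_le hpn
  rw [Nat.add_sub_cancel_left, pow_add]
  push_cast
  ring

end Groth.Agent.EulerDegenLib
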