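import Groth.Agent.AVLib.Invariant
import Groth.Agent.AVLib.Deg.AV
import Groth.Agent.S1528
import Groth.Agent.S7859
import Groth.Agent.CurveLib.Euler
import Groth.Agent.CurveLib.Inv
import Groth.Agent.DevLib.Closed

/-!
A translation invariant line bundle on a positive-dimensional abelian variety has Euler characteristic zero.
-/

set_option autoImplicit false
set_option backward.isDefEq.respectTransparency false
set_option linter.style.haveILetI false

universe u

open CategoryTheory CategoryTheory.Limits MonoidalCategory CartesianMonoidalCategory MonObj AlgebraicGeometry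
open Groth.Agent Groth.Agent.PicLib Groth.Agent.AVLib Groth.Agent.AmpleLib

namespace Groth.Agent.EulerDegenLib

variable {K : Type u} [Field K] [IsAlgClosed K] {A : Over (Spec (CommRingCat.of K))} [GrpObj A] [IsProper A.hom]
  [GeometricallyIntegral A.hom]

theorem pull_npow_invariant {c : Pic A.left} (hc : ∀ a : 𝟙_ _ ⟶ A, pull (trR a).left c = c) :
    ∀ n : ℕ, pull (𝟙 A ^ n).left c = c ^ n
  | 0 => by rw [pow_zero, pow_zero, pull_one]
  | n + 1 => by
    rw [pow_succ, pow_succ, pull_mul_of_invariant hc, pull_npow_invariant hc n, Over.id_left, pull_id]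

theorem euler_eq_zero_of_invariant {r : ℕ} (hr : topologicalKrullDim A.left = r) (hr0 : 0 < r)
    {L : A.left.Modules} (hL : PicF.IsInvertible L) (hc : ∀ a : 𝟙_ _ ⟶ A, pull (trR a).left (cls hL) = cls hL) :
    @Curv2.euler K _ A.left ⟨A.hom⟩ L = 0 := by
  letI : A.left.Over (Spec (CommRingCat.of K)) := ⟨A.hom⟩
  haveI : IsProper (A.left ↘ Spec (CommRingCat.of K)) := ‹IsProper A.hom›
  haveI := EulerIneqLib.isNoetherian_proper (X := A.left) K
  have hsupp : topologicalKrullDim (CohB1.support (Coh.structureModule A.left)) ≤ r :=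
    (topologicalKrullDim_subspace_le _ _).trans hr.le
  obtain ⟨P, hPd, hP⟩ := Groth.Agent.S1528.result K A.left (Coh.structureModule A.left)
    (DevLib.isCoh_structureModule _) r hsupp 1 (fun _ => L) (fun _ => hL)
  have hval : ∀ n : ℕ, 1 ≤ n →
      MvPolynomial.eval (fun _ : Fin 1 => (n : ℚ)) P = (n : ℚ) ^ (2 * r) * (Curv2.euler K A.left L : ℚ) := by
    intro n hn
    obtain ⟨hfin, hfl, hdeg⟩ := AVLib.npow_spec hr n hn
    haveI := hfin
    haveI := hfl
    have h1 := Groth.Agent.S7859.result K A A (𝟙 A ^ n) (n ^ (2 * r)) hdeg L (CurveLib.isCoh_of_isInvertible hL)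
    have hinv := AmpleLib.isInvertible_pullback (𝟙 A ^ n).left hL
    have hinv' := isInvertible_tensor (X := A.left) ParaFLib.isInvertible_structureModule (isInvertible_tensorPow hL n)
    obtain ⟨e⟩ := (cls_eq_cls hinv hinv').1 (by
      rw [← pull_cls _ hL, pull_npow_invariant hc, cls_tensor ParaFLib.isInvertible_structureModule (isInvertible_tensorPow hL n),
        cls_structureModule, _root_.one_mul, cls_tensorPow])
    have h2 := hP fun _ => n
    rw [← h2]
    have h3 : Curv2.tensorPows (Coh.structureModule A.left) 1 (fun _ => L) (fun _ => n) =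
        CohB1.tensorMod (Coh.structureModule A.left) (CohB1.tensorPow L n) := rfl
    rw [h3, ← CurveLib.euler_iso (K := K) e, h1]
    push_cast
    ring
  -- compare the degrees
  let Q : Polynomial ℚ := MvPolynomial.aeval (fun _ : Fin 1 => Polynomial.X) P
  have hQd : Q.natDegree ≤ r := by
    have := MvPolynomial.aeval_natDegree_le (m := P.totalDegree) (n := 1) P le_rfl
      (fun _ : Fin 1 => (Polynomial.X : Polynomial ℚ)) fun _ => Polynomial.natDegree_X_le
    exact (this.trans_eq (mul_one _)).trans hPd
  have hQe : ∀ x : ℚ, Q.eval x = MvPolynomial.eval (fun _ => x) P := fun x => by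
    show Polynomial.aeval x (MvPolynomial.aeval (fun _ : Fin 1 => Polynomial.X) P) = _
    rw [← AlgHom.comp_apply, MvPolynomial.comp_aeval]
    simp [MvPolynomial.aeval_eq_eval]
  have hz : Q - Polynomial.C (Curv2.euler K A.left L : ℚ) * Polynomial.X ^ (2 * r) = 0 := by
    refine Polynomial.eq_zero_of_infinite_isRoot _ (Set.infinite_of_injective_forall_mem
      (f := fun n : ℕ => ((n + 1 : ℕ) : ℚ)) (fun a b h => Nat.succ_injective (Nat.cast_injective h)) fun n => ?_)
    show Polynomial.eval _ _ = 0
    rw [Polynomial.eval_sub, Polynomial.eval_mul, Polynomial.eval_C, Polynomial.eval_pow, Polynomial.eval_X,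
      hQe, hval (n + 1) (by omega), mul_comm, sub_self]
  rw [sub_eq_zero] at hz
  by_contra hne
  rw [hz, Polynomial.natDegree_C_mul_X_pow _ _ (Int.cast_ne_zero.2 hne)] at hQd
  omega

end Groth.Agent.EulerDegenLib
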