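import Groth.Agent.EulerDegenLib.Kunneth
import Groth.Agent.EulerDegenLib.PicZero
import Groth.Agent.AVLib.KL
import Groth.Agent.AVLib.IdSub
import Groth.Agent.AVLib.Isog
import Groth.Agent.ThetaLib.KLExist
import Groth.Agent.PoincareLib.Reduce
import Groth.Agent.S11999
import Groth.Agent.S19769
import Groth.Agent.CommGrpAbLib.Basic

/-!
A degenerate line bundle on an abelian variety has Euler characteristic zero.
-/

set_option autoImplicit false
set_option backward.isDefEq.respectTransparency false
set_option linter.style.haveILetI false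
set_option linter.unusedSectionVars false
set_option maxHeartbeats 1000000

universe u

open CategoryTheory CategoryTheory.Limits MonoidalCategory CartesianMonoidalCategory MonObj AlgebraicGeometry
open Groth.Agent Groth.Agent.PicLib Groth.Agent.AVLib Groth.Agent.AmpleLib

noncomputable section

namespace Groth.Agent.EulerDegenLib

/-- A morphism from a reduced scheme factors through a closed immersion containing its image. -/
theorem lift_reduced {W Z Y : Scheme.{u}} [IsReduced W] (q : W ⟶ Y) (i : Z ⟶ Y) [IsClosedImmersion i]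
    (h : Set.range q ⊆ Set.range i) : ∃ z : W ⟶ Z, z ≫ i = q := by
  let C : TopologicalSpace.Closeds Y := ⟨Set.range i, i.isClosedEmbedding.isClosed_range⟩
  obtain ⟨z, hz⟩ := FinGrpdLib.exists_lift_reduced q C h
  have hk : i.ker ≤ ((Scheme.IdealSheafData.vanishingIdeal C).subschemeι).ker := by
    rw [Scheme.IdealSheafData.ker_subschemeι, ← Scheme.IdealSheafData.le_support_iff_le_vanishingIdeal,
      ← SetLike.coe_subset_coe, Scheme.Hom.support_ker]
    exact subset_closure
  exact ⟨z ≫ IsClosedImmersion.lift i _ hk, by rw [Category.assoc, IsClosedImmersion.lift_fac, hz]⟩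

variable {k : Type u} [Field k] [IsAlgClosed k] {X : Over (Spec (CommRingCat.of k))} [GrpObj X] [IsProper X.hom]
  [GeometricallyIntegral X.hom]

theorem lift_reduced_over {T N : Over (Spec (CommRingCat.of k))} [IsReduced T.left] (q : T ⟶ X) (i : N ⟶ X)
    [IsClosedImmersion i.left] (h : ∀ t, q.left t ∈ Set.range i.left) : ∃ z : T ⟶ N, z ≫ i = q := by
  obtain ⟨z, hz⟩ := lift_reduced q.left i.left (by rintro _ ⟨t, rfl⟩; exact h t)
  exact ⟨Over.homMk z (by rw [← Over.w i, ← Category.assoc, hz]; exact Over.w q), Over.OverMorphism.ext hz⟩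

theorem addAlong_point {c : Pic X.left} {x : 𝟙_ (Over (Spec (CommRingCat.of k))) ⟶ X}
    (h : pull (trR x).left c = c) : AddAlong c x := by
  have e1 : fst X (𝟙_ _) * (snd X (𝟙_ _) ≫ x) = fst X (𝟙_ _) ≫ trR x := by
    rw [trR, MonObj.comp_mul, Category.comp_id, ← Category.assoc,
      toUnit_unique (fst X (𝟙_ _) ≫ toUnit X) (snd X (𝟙_ _))]
  have e2 : pull (snd X (𝟙_ _) ≫ x).left c = 1 := by
    rw [toUnit_unique (snd X (𝟙_ _)) (toUnit _), pull_const]
  rw [AddAlong, e1, e2, _root_.mul_one, ← pull_left_comp, h]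

theorem stab_of_addAlong {c : Pic X.left} {x : 𝟙_ (Over (Spec (CommRingCat.of k))) ⟶ X} (h : AddAlong c x) :
    pull (trR x).left c = c := by
  have h1 := congrArg (pull (lift (𝟙 X) (toUnit X)).left) h
  rw [map_mul, pull_left_comp, pull_left_comp, pull_left_comp, MonObj.comp_mul, lift_fst, lift_snd_assoc, pull_const,
    _root_.mul_one, Over.id_left, pull_id] at h1
  exact h1

/-- The positive dimensional abelian subvariety along which the class is additive. -/
theorem exists_subvariety {L : X.left.Modules} (hL : PicF.IsInvertible L)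
    (hinf : Set.Infinite {x : 𝟙_ (Over (Spec (CommRingCat.of k))) ⟶ X | pull (trR x).left (cls hL) = cls hL}) :
    ∃ (B : Over (Spec (CommRingCat.of k))) (_ : GrpObj B) (i : B ⟶ X), IsMonHom i ∧ IsClosedImmersion i.left ∧
      IsProper B.hom ∧ GeometricallyIntegral B.hom ∧ AddAlong (cls hL) i ∧
      ∀ r : ℕ, topologicalKrullDim B.left = r → 0 < r := by
  classical
  obtain ⟨K, iK, hK⟩ := ThetaLib.exists_isKL (A := X) hL
  haveI : IsClosedImmersion iK.left := hK.closed
  have hfac : ∀ {T : Over (Spec (CommRingCat.of k))} (z : T ⟶ X),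
      (∃ y : T ⟶ K, y ≫ iK = z) ↔ AddAlong (cls hL) z := fun {T} z =>
    (hK.univ T z).symm.trans (isMumfordTriv_iff hL z)
  let pt : ↥(Spec (CommRingCat.of k)) := IsLocalRing.closedPoint k
  let Z : Set X.left := Set.range iK.left
  have hres : ∀ {T : Over (Spec (CommRingCat.of k))} (a : T ⟶ X) (t : T.left), a.left t ∈ Z →
      ∃ y : Over.mk (T.left.fromSpecResidueField t ≫ T.hom) ⟶ K,
        y ≫ iK = (Over.homMk (T.left.fromSpecResidueField t) rfl : _ ⟶ T) ≫ a := by
    intro T a t ha
    haveI : IsReduced (Over.mk (T.left.fromSpecResidueField t ≫ T.hom)).left :=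
      inferInstanceAs (IsReduced (Spec (T.left.residueField t)))
    refine lift_reduced_over _ iK fun s => ?_
    rw [Over.comp_left, Scheme.Hom.comp_apply]
    show a.left (T.left.fromSpecResidueField t s) ∈ Z
    rw [Scheme.fromSpecResidueField_apply]
    exact ha
  have hback : ∀ {T : Over (Spec (CommRingCat.of k))} (a : T ⟶ X) (t : T.left)
      (y : Over.mk (T.left.fromSpecResidueField t ≫ T.hom) ⟶ K),
      y ≫ iK = (Over.homMk (T.left.fromSpecResidueField t) rfl : _ ⟶ T) ≫ a → a.left t ∈ Z := by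
    intro T a t y hy
    let s : (Spec (T.left.residueField t) : Scheme.{u}) := IsLocalRing.closedPoint _
    refine ⟨y.left s, ?_⟩
    have := congrArg (fun f => f.left s) hy
    simp only [Over.comp_left, Scheme.Hom.comp_apply] at this
    rw [this]
    exact congrArg a.left (Scheme.fromSpecResidueField_apply t s)
  have hgrp := fun T => Groth.Agent.S19769.result k X L hL K iK hK T
  have hZ1 : GrpSchLib.unitPt X ∈ Z := by
    obtain ⟨y, hy⟩ := (hgrp (𝟙_ _)).2.1
    refine ⟨y.left pt, ?_⟩
    rw [← Scheme.Hom.comp_apply, ← Over.comp_left, hy, GrpSchLib.one_apply]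
  obtain ⟨N, hN, iN, hiN, hiNc, hNr, hNrange⟩ := MonoFibre.exists_redSubgroup Z iK.left.isClosedEmbedding.isClosed_range
    hZ1 (fun {T} a b t ha hb => by
      obtain ⟨y₁, h₁⟩ := hres a t ha
      obtain ⟨y₂, h₂⟩ := hres b t hb
      obtain ⟨y, hy⟩ := (hgrp _).1 y₁ y₂
      exact hback (a * b) t y (by rw [hy, h₁, h₂, MonObj.comp_mul]))
    (fun {T} a t ha => by
      obtain ⟨y₁, h₁⟩ := hres a t ha
      obtain ⟨y, hy⟩ := (hgrp _).2.2 y₁
      exact hback a⁻¹ t y (by rw [hy, h₁, GrpObj.comp_inv]))
  letI := hN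
  haveI := hiN; haveI := hiNc; haveI := hNr
  haveI : IsProper N.hom := by rw [← Over.w iN]; infer_instance
  haveI : Mono iN := (Over.forget _).mono_of_mono_map (show Mono iN.left by infer_instance)
  obtain ⟨y₀, hy₀⟩ := lift_reduced_over iN iK fun t => hNrange.le ⟨t, rfl⟩
  obtain ⟨B, hB, i₀, hi₀, hi₀c, hBp, hBg, hBr⟩ := AVLib.exists_idSubgroup (G := N)
  letI := hB
  haveI := hi₀; haveI := hi₀c; haveI := hBp; haveI := hBg
  refine ⟨B, hB, i₀ ≫ iN, inferInstance, ?_, hBp, hBg,
    (hfac _).1 ⟨i₀ ≫ y₀, by rw [Category.assoc, hy₀]⟩, fun r hr => ?_⟩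
  · rw [Over.comp_left]; infer_instance
  by_contra hr0
  have hr0' : r = 0 := by omega
  subst hr0'
  haveI : IsLocallyNoetherian B.left := LocallyOfFiniteType.isLocallyNoetherian B.hom
  haveI : CompactSpace B.left := QuasiCompact.compactSpace_of_compactSpace B.hom
  haveI : Finite B.left := AVLib.finite_of_dim_zero B.left (by rw [hr]; simp)
  haveI : JacobsonSpace B.left := LocallyOfFiniteType.jacobsonSpace B.hom
  haveI : Subsingleton ↥(Spec (CommRingCat.of k)) := inferInstanceAs (Subsingleton (PrimeSpectrum k))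
  haveI : IsIntegral B.left := GeometricallyIntegral.isIntegral_of_subsingleton B.hom
  haveI : Subsingleton B.left := PreconnectedSpace.trivial_of_discrete
  obtain ⟨c, hc0, hc⟩ := AVLib.exists_pow_mem_idComp (G := N)
  haveI : IsCommMonObj X := isCommMonObj_of_isProper_of_geometricallyIntegral X
  refine hinf (PoincareLib.finite_of_pow (A := X) (Nat.factorial_pos c) _ fun x hx => ?_)
  obtain ⟨yK, hyK⟩ := (hfac x).2 (addAlong_point hx)
  haveI : IsReduced (𝟙_ (Over (Spec (CommRingCat.of k)))).left := inferInstanceAs (IsReduced (Spec (CommRingCat.of k)))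
  obtain ⟨y, hy⟩ := lift_reduced_over x iN fun t => by
    rw [hNrange, ← hyK, Over.comp_left, Scheme.Hom.comp_apply]
    exact ⟨_, rfl⟩
  obtain ⟨m, hm1, hmc, hmem⟩ := hc y
  have hpt : (y ^ m).left pt = GrpSchLib.unitPt N := by
    obtain ⟨b, hb⟩ := hBr.ge hmem
    obtain ⟨e, he⟩ : GrpSchLib.unitPt N ∈ Set.range i₀.left := hBr.ge mem_irreducibleComponent
    rw [← hb, ← he, Subsingleton.elim b e]
  have hpow : y ^ m = 1 := by
    refine Over.OverMorphism.ext (congrArg Subtype.val ((pointEquivClosedPoint N.hom).injective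
      (a₁ := ⟨(y ^ m).left, Over.w _⟩) (a₂ := ⟨(1 : 𝟙_ _ ⟶ N).left, Over.w _⟩) (Subtype.ext ?_)))
    show (y ^ m).left pt = (1 : 𝟙_ _ ⟶ N).left pt
    rw [hpt, GrpSchLib.one_apply]
  obtain ⟨q, hq⟩ := Nat.dvd_factorial hm1 hmc
  rw [← hy, hq, pow_mul, ← MonObj.pow_comp, hpow, MonObj.one_comp, one_pow]

theorem euler_over_congr {P : Scheme.{u}} {h₁ h₂ : P ⟶ Spec (CommRingCat.of k)} (h : h₁ = h₂) (M : P.Modules) :
    @Curv2.euler k _ P ⟨h₁⟩ M = @Curv2.euler k _ P ⟨h₂⟩ M := by
  subst h; rfl

theorem euler_eq_zero_of_infinite (k : Type u) [Field k] [IsAlgClosed k] (X : Over (Spec (CommRingCat.of k)))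
    [GrpObj X] [IsProper X.hom] [GeometricallyIntegral X.hom] {L : X.left.Modules} (hL : PicF.IsInvertible L)
    (hdeg : Set.Infinite {x : 𝟙_ (Over (Spec (CommRingCat.of k))) ⟶ X |
      Nonempty ((Scheme.Modules.pullback (𝟙 X * (toUnit X ≫ x)).left).obj L ≅ L)}) :
    @Curv2.euler k _ X.left ⟨X.hom⟩ L = 0 := by
  classical
  have hinf : Set.Infinite {x : 𝟙_ (Over (Spec (CommRingCat.of k))) ⟶ X | pull (trR x).left (cls hL) = cls hL} := by
    convert hdeg using 1
    ext a
    rw [Set.mem_setOf_eq, Set.mem_setOf_eq, PicLib.pull_cls, PicLib.cls_eq_cls]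
    rfl
  obtain ⟨B, hB, i, hi, hic, hBp, hBg, hadd, hpos⟩ := exists_subvariety hL hinf
  letI := hB
  haveI := hi; haveI := hic; haveI := hBp; haveI := hBg
  obtain ⟨C, hC, j, hCp, hCg, hj, hjc, hsurj, hfin⟩ := Groth.Agent.S11999.result k X B i
  letI := hC
  haveI := hj; haveI := hjc; haveI := hCp; haveI := hCg
  haveI : IsCommMonObj X := isCommMonObj_of_isProper_of_geometricallyIntegral X
  haveI : IsCommMonObj B := isCommMonObj_of_isProper_of_geometricallyIntegral B
  haveI : IsCommMonObj C := isCommMonObj_of_isProper_of_geometricallyIntegral C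
  let m : B ⊗ C ⟶ X := (fst B C ≫ i) * (snd B C ≫ j)
  haveI : IsMonHom m := CommGrpAbLib.isMonHom_mul _ _
  haveI : Surjective m.left := hsurj
  haveI : IsFinite m.left := hfin
  haveI : IsProper (B ⊗ C).hom := PoincareLib.isProper_tensor
  haveI : GeometricallyIntegral (B ⊗ C).hom := by
    rw [← Over.w (fst B C)]
    haveI : GeometricallyIntegral (fst B C).left :=
      MorphismProperty.pullback_fst (P := @GeometricallyIntegral) B.hom C.hom inferInstance
    haveI : Flat C.hom := inferInstance
    haveI : Flat (fst B C).left := MorphismProperty.pullback_fst (P := @Flat) B.hom C.hom inferInstance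
    haveI : UniversallyOpen C.hom := inferInstance
    haveI : UniversallyOpen (fst B C).left :=
      MorphismProperty.pullback_fst (P := @UniversallyOpen) B.hom C.hom inferInstance
    exact AVLib.geometricallyIntegral_comp (fst B C).left B.hom
  haveI : Subsingleton ↥(Spec (CommRingCat.of k)) := inferInstanceAs (Subsingleton (PrimeSpectrum k))
  haveI : IsIntegral X.left := GeometricallyIntegral.isIntegral_of_subsingleton X.hom
  haveI : IsIntegral (B ⊗ C).left := GeometricallyIntegral.isIntegral_of_subsingleton (B ⊗ C).hom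
  haveI : Flat m.left := AVLib.flat_of_surjective m
  haveI : IsLocallyNoetherian X.left := LocallyOfFiniteType.isLocallyNoetherian X.hom
  haveI : LocallyOfFinitePresentation m.left := inferInstance
  obtain ⟨x₀⟩ := (inferInstance : Nonempty ↥(B ⊗ C).left)
  have hd0 := Scheme.Hom.one_le_finrank_map m.left x₀
  generalize hd' : Scheme.Hom.finrank m.left (m.left x₀) = d at hd0
  have hd : ∀ y, Scheme.Hom.finrank m.left y = d := fun y => hd' ▸
    (Scheme.Hom.isLocallyConstant_finrank m.left).apply_eq_of_preconnectedSpace y _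
  have h1 := Groth.Agent.S7859.result k (B ⊗ C) X m d hd L (CurveLib.isCoh_of_isInvertible hL)
  -- the inverse image is a box product
  have hLB := isInvertible_pullback i.left hL
  have hLC := isInvertible_pullback j.left hL
  have hcls : pull m.left (cls hL) = pull (fst B C).left (cls hLB) * pull (snd B C).left (cls hLC) := by
    rw [← pull_cls _ hL, ← pull_cls _ hL, pull_left_comp, pull_left_comp]
    have h2 := congrArg (pull (lift (snd B C ≫ j) (fst B C)).left) hadd
    rw [map_mul, pull_left_comp, pull_left_comp, pull_left_comp, MonObj.comp_mul, lift_fst, lift_snd_assoc] at h2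
    letI : CommGroup (B ⊗ C ⟶ X) := Hom.commGroup
    rw [show m = (snd B C ≫ j) * (fst B C ≫ i) from mul_comm _ _, h2, mul_comm]
  obtain ⟨e⟩ := (cls_eq_cls (isInvertible_pullback m.left hL)
    (isInvertible_tensor (isInvertible_pullback (fst B C).left hLB) (isInvertible_pullback (snd B C).left hLC))).1 (by
      rw [← pull_cls _ hL, cls_tensor (isInvertible_pullback (fst B C).left hLB) (isInvertible_pullback (snd B C).left hLC),
        ← pull_cls _ hLB, ← pull_cls _ hLC]
      exact hcls)
  -- the restriction to the subvariety is translation invariant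
  have hinv : ∀ b : 𝟙_ _ ⟶ B, pull (trR b).left (cls hLB) = cls hLB := fun b => by
    have hb : AddAlong (cls hL) (b ≫ i) := by
      have h2 := congrArg (pull (X ◁ b).left) hadd
      rw [map_mul, pull_left_comp, pull_left_comp, pull_left_comp, MonObj.comp_mul, whiskerLeft_fst,
        whiskerLeft_snd_assoc] at h2
      exact h2
    rw [← pull_cls _ hL, pull_left_comp, show trR b ≫ i = i ≫ trR (b ≫ i) by
      rw [trR, trR, MonObj.mul_comp, MonObj.comp_mul, Category.id_comp, Category.comp_id, Category.assoc,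
        ← Category.assoc i, toUnit_unique (i ≫ toUnit X) (toUnit B)], ← pull_left_comp, stab_of_addAlong hb]
  obtain ⟨r, hr⟩ := AVLib.exists_dim (A := B)
  have h0 := euler_eq_zero_of_invariant hr (hpos r hr) hLB hinv
  letI : B.left.Over (Spec (CommRingCat.of k)) := ⟨B.hom⟩
  letI : C.left.Over (Spec (CommRingCat.of k)) := ⟨C.hom⟩
  haveI : IsProper (B.left ↘ Spec (CommRingCat.of k)) := ‹IsProper B.hom›
  haveI : IsProper (C.left ↘ Spec (CommRingCat.of k)) := ‹IsProper C.hom›
  have h3 := euler_kunneth k B.left C.left hLB hLC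
  have h4 : @Curv2.euler k _ (B ⊗ C).left ⟨(B ⊗ C).hom⟩ ((Scheme.Modules.pullback m.left).obj L) = 0 := by
    letI : (B ⊗ C).left.Over (Spec (CommRingCat.of k)) := ⟨(B ⊗ C).hom⟩
    haveI : IsProper ((B ⊗ C).left ↘ Spec (CommRingCat.of k)) := ‹IsProper (B ⊗ C).hom›
    rw [CurveLib.euler_iso (K := k) e]
    rw [h0, zero_mul] at h3
    exact (euler_over_congr (Over.w (fst B C)).symm _).trans h3
  rw [h4] at h1
  rcases mul_eq_zero.1 h1.symm with h | h
  · omega
  · exact h

end Groth.Agent.EulerDegenLib
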